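import Groth.Agent.S5258
import Groth.Agent.SmoothWeilLib.ConnFibres
import Groth.Agent.GrpSchLib.Coincidence

/-!
# Universal closed subschemes along smooth morphisms with geometrically connected fibres
-/

universe u

open CategoryTheory CategoryTheory.Limits MonoidalCategory CartesianMonoidalCategory MonObj GrpObj AlgebraicGeometry

namespace Groth.Agent.SmoothTransp

set_option backward.isDefEq.respectTransparency.types false

variable {S : Scheme.{u}} {W X Y E : Over S}

/-- The points `x` with `f (W × x) ⊆ E`, for `W` smooth with geometrically connected fibres. -/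
theorem exists_closed_universal [Smooth W.hom] (hW : ∀ s : S, ConnectedSpace ↥(Red.geomFibre s W).left)
    (f : W ⊗ X ⟶ Y) (i : E ⟶ Y) [IsClosedImmersion i.left] :
    ∃ (Z : Over S) (c : Z ⟶ X), IsClosedImmersion c.left ∧
      (LocallyOfFinitePresentation i.left → LocallyOfFinitePresentation c.left) ∧
      ∀ {P : Over S} (x : P ⟶ X), (∃ z : P ⟶ Z, z ≫ c = x) ↔ ∃ l : W ⊗ P ⟶ E, l ≫ i = (W ◁ x) ≫ f := by
  haveI := SmoothWeilLib.geometricallyIrreducible W.hom hW
  haveI : GeometricallyIrreducible (snd W X).left :=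
    inferInstanceAs (GeometricallyIrreducible (pullback.snd W.hom X.hom))
  haveI : Smooth (snd W X).left := inferInstanceAs (Smooth (pullback.snd W.hom X.hom))
  have hconn : ∀ s, ConnectedSpace ↥(Limits.pullback (snd W X).left (Red.geomPt s)) := fun s => by
    haveI : IrreducibleSpace ↥(Limits.pullback (snd W X).left (Red.geomPt s)) :=
      GeometricallyIrreducible.geometrically_irreducibleSpace _ _ _ (.of_hasPullback _ _)
    infer_instance
  let e := pullback.fst f.left i.left
  haveI : IsClosedImmersion e := inferInstanceAs (IsClosedImmersion (pullback.fst f.left i.left))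
  obtain ⟨Z, z, hz, hzf, hfp⟩ := Groth.Agent.S5258.result (snd W X).left hconn e
  have hfac : ∀ {T : Over S} (y : T ⟶ W ⊗ X),
      (∃ l : T.left ⟶ pullback f.left i.left, l ≫ e = y.left) ↔ ∃ l : T ⟶ E, l ≫ i = y ≫ f := by
    intro T y
    constructor
    · rintro ⟨l, hl⟩
      refine ⟨Over.homMk (l ≫ pullback.snd f.left i.left) ?_, Over.OverMorphism.ext ?_⟩
      · rw [Category.assoc, ← Over.w i, ← pullback.condition_assoc, ← Category.assoc, hl, Over.w f, Over.w y]
      · show (l ≫ pullback.snd f.left i.left) ≫ i.left = y.left ≫ f.left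
        rw [Category.assoc, ← pullback.condition, ← Category.assoc, hl]
    · rintro ⟨l, hl⟩
      exact ⟨pullback.lift y.left l.left (congrArg CommaMorphism.left hl).symm, pullback.lift_fst _ _ _⟩
  refine ⟨Over.mk (z ≫ X.hom), Over.homMk z rfl, hz, fun hi => hfp (MorphismProperty.pullback_fst _ _ hi),
    fun {P} x => ?_⟩
  let H := GrpSchLib.isPullback_whiskerLeft (W := W) x
  rw [← hfac]
  refine Iff.trans ⟨fun ⟨w, hw⟩ => ⟨w.left, congrArg CommaMorphism.left hw⟩, fun ⟨w, hw⟩ =>
    ⟨Over.homMk w (by show w ≫ z ≫ X.hom = _; rw [← Category.assoc, hw, Over.w x]), Over.OverMorphism.ext hw⟩⟩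
    ((hzf _ x.left).trans ⟨fun ⟨l, hl⟩ => ?_, fun ⟨l, hl⟩ => ?_⟩)
  · exact ⟨H.isoPullback.hom ≫ l, by rw [Category.assoc, hl, IsPullback.isoPullback_hom_fst]⟩
  · exact ⟨H.isoPullback.inv ≫ l, by rw [Category.assoc, hl, IsPullback.isoPullback_inv_fst]⟩

end Groth.Agent.SmoothTransp
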